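import Mathlib

/-!
# An Artin–Rees type argument for extensions, with the Artin–Rees input as a hypothesis

Variant of `Groth.Agent.Helper6.ExalPS.exists_pow_inf_ker_eq_bot` in which the target ring is not
assumed Noetherian: the consequence of the Artin–Rees lemma that is used is a hypothesis.
-/

set_option autoImplicit false

namespace Groth.Agent.Helper6.ExalCompl

theorem mul_comap_inf_ker_eq_bot {S E F : Type*} [CommRing S] [CommRing E] [FunLike F E S]
    [RingHomClass F E S]
    (p : F) (hps : Function.Surjective p) {d : ℕ} (y : Fin d → E) (x : Fin d → S)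
    (hy : ∀ i, p (y i) = x i)
    (hkill : ∀ e : E, p e ∈ Ideal.span (Set.range x) → ∀ w : E, p w = 0 → e * w = 0)
    (dd : (Fin d → S) →ₗ[S] S) (hdd : ∀ v, dd v = ∑ i, v i * x i) (c : ℕ)
    (hAR : ∀ v : Fin d → S, (∀ i, v i ∈ Ideal.span (Set.range x) ^ (c + 1)) → dd v = 0 →
      v ∈ Ideal.span (Set.range x) • LinearMap.ker dd) :
    ∀ w ∈ Ideal.span (Set.range y) * Ideal.comap p (Ideal.span (Set.range x) ^ (c + 1)),
      p w = 0 → w = 0 := by
  classical
  have hxm : ∀ i, x i ∈ Ideal.span (Set.range x) := fun i => Ideal.subset_span ⟨i, rfl⟩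
  have claim : ∀ r ∈ (Ideal.span (Set.range x)) • LinearMap.ker dd, ∀ e : Fin d → E,
      (∀ i, p (e i) = r i) → ∑ i, e i * y i = 0 := by
    intro r hr
    refine Submodule.smul_induction_on hr ?_ ?_
    · intro s hs z hz e he
      obtain ⟨s', hs'⟩ := hps s
      choose z' hz' using fun i => hps (z i)
      have h1 : ∀ i, (e i - s' * z' i) * y i = 0 := by
        intro i
        rw [mul_comm]
        apply hkill (y i) (by rw [hy]; exact hxm i)
        rw [map_sub, map_mul, he, hs', hz', Pi.smul_apply, smul_eq_mul, sub_self]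
      have h2 : p (∑ i, z' i * y i) = 0 := by
        rw [map_sum]
        simp only [map_mul, hz', hy]
        rw [← hdd]
        exact hz
      have h3 : s' * ∑ i, z' i * y i = 0 := hkill s' (by rw [hs']; exact hs) _ h2
      calc ∑ i, e i * y i = ∑ i, ((e i - s' * z' i) * y i + s' * (z' i * y i)) := by
            apply Finset.sum_congr rfl
            intro i _
            ring
        _ = 0 := by
            rw [Finset.sum_add_distrib, Finset.sum_congr rfl (fun i _ => h1 i),
              Finset.sum_const_zero, zero_add, ← Finset.mul_sum, h3]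
    · intro r₁ r₂ h₁ h₂ e he
      choose e₁ he₁ using fun i => hps (r₁ i)
      have h3 := h₁ e₁ he₁
      have h4 := h₂ (fun i => e i - e₁ i) (fun i => by
        rw [map_sub, he, he₁, Pi.add_apply, add_sub_cancel_left])
      calc ∑ i, e i * y i = ∑ i, e₁ i * y i + ∑ i, (e i - e₁ i) * y i := by
            rw [← Finset.sum_add_distrib]
            apply Finset.sum_congr rfl
            intro i _
            ring
        _ = 0 := by rw [h3, h4, add_zero]
  intro w hw hw0
  rw [mul_comm] at hw
  have hw' : w ∈ (Ideal.comap p ((Ideal.span (Set.range x)) ^ (c + 1))) •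
      Submodule.span E (Set.range y) := hw
  obtain ⟨a, ha, hsum⟩ := (Submodule.mem_ideal_smul_span_iff_exists_sum _ y w).mp hw'
  rw [Finsupp.sum_fintype a (fun i c => c • y i) (fun i => zero_smul _ _)] at hsum
  obtain ⟨r, hr⟩ : ∃ r : Fin d → S, ∀ i, r i = p (a i) := ⟨fun i => p (a i), fun _ => rfl⟩
  have hrZ : dd r = 0 := by
    rw [hdd, ← hw0, ← hsum, map_sum]
    apply Finset.sum_congr rfl
    intro i _
    rw [smul_eq_mul, map_mul, hr, hy]
  have hr3 := hAR r (fun i => by rw [hr]; exact ha i) hrZ
  have h5 := claim r hr3 (fun i => a i) (fun i => (hr i).symm)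
  rw [← hsum]
  simp only [smul_eq_mul]
  exact h5

theorem map_mem_mul {E E'' F : Type*} [CommRing E] [CommRing E''] [FunLike F E E'']
    [RingHomClass F E E''] (ψ : F) {d : ℕ} (y : Fin d → E) (J : Ideal E) (J'' : Ideal E'')
    (h : ∀ a ∈ J, ψ a ∈ J'') :
    ∀ b ∈ Ideal.span (Set.range y) * J, ψ b ∈ Ideal.span (Set.range (ψ ∘ y)) * J'' := by
  intro b hb
  have h1 : ψ b ∈ Ideal.map ψ (Ideal.span (Set.range y) * J) := Ideal.mem_map_of_mem _ hb
  rw [Ideal.map_mul, Ideal.map_span, ← Set.range_comp] at h1
  exact Ideal.mul_mono le_rfl (Ideal.map_le_iff_le_comap.mpr fun a ha => h a ha) h1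

end Groth.Agent.Helper6.ExalCompl
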