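import Mathlib

/-!
# The completion of a Noetherian local ring: ideals `𝔪ⁿ R̂`, an Artin–Rees consequence, and
simple modules
-/

set_option autoImplicit false
universe u

namespace Groth.Agent.Helper6.ExalCompl

open IsLocalRing

section Simple

variable {R : Type u} [CommRing R] [IsLocalRing R]
  (L : Type u) [AddCommGroup L] [Module R L] [IsSimpleModule R L]

theorem smul_eq_zero_of_mem_maximalIdeal {r : R} (hr : r ∈ maximalIdeal R) (z : L) :
    r • z = 0 := by
  by_contra hne
  obtain ⟨s, hs⟩ := IsSimpleModule.toSpanSingleton_surjective R hne z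
  rw [LinearMap.toSpanSingleton_apply] at hs
  have h1 : (1 - s * r) • z = 0 := by
    rw [sub_smul, one_smul, mul_smul, hs, sub_self]
  have hu : IsUnit (1 - s * r) :=
    IsLocalRing.isUnit_one_sub_self_of_mem_nonunits _
      ((IsLocalRing.mem_maximalIdeal _).mp (Ideal.mul_mem_left _ s hr))
  obtain ⟨v, hv⟩ := hu.exists_left_inv
  have hz : z = 0 := by
    calc z = (v * (1 - s * r)) • z := by rw [hv, one_smul]
      _ = v • ((1 - s * r) • z) := mul_smul _ _ _
      _ = 0 := by rw [h1, smul_zero]
  exact hne (by rw [hz, smul_zero])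

end Simple

section Hat

variable {R : Type u} [CommRing R] [IsLocalRing R] [IsNoetherianRing R]

local notation "Rhat" => AdicCompletion (IsLocalRing.maximalIdeal R) R

theorem mem_map_pow_iff (n : ℕ) (x : Rhat) :
    x ∈ Ideal.map (algebraMap R Rhat) (maximalIdeal R ^ n) ↔
      AdicCompletion.evalₐ (maximalIdeal R) n x = 0 := by
  rw [← Submodule.restrictScalars_mem R, ← Ideal.smul_top_eq_map,
    AdicCompletion.pow_smul_top_eq_ker_eval (Ideal.fg_of_isNoetherianRing _), LinearMap.mem_ker]
  constructor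
  · intro h0
    rw [← AdicCompletion.factor_eval_eq_evalₐ (n := n) (maximalIdeal R) x (by simp), h0, map_zero]
  · intro h0
    rw [← AdicCompletion.factor_evalₐ_eq_eval (n := n) (maximalIdeal R) x (by simp), h0, map_zero]

theorem exists_approx (n : ℕ) (s : Rhat) :
    ∃ r : R, s - algebraMap R Rhat r ∈ Ideal.map (algebraMap R Rhat) (maximalIdeal R ^ n) := by
  obtain ⟨r, hr⟩ := Ideal.Quotient.mk_surjective (AdicCompletion.evalₐ (maximalIdeal R) n s)
  refine ⟨r, (mem_map_pow_iff n _).mpr ?_⟩
  rw [map_sub, AlgHom.commutes, Ideal.Quotient.algebraMap_eq, ← hr, sub_self]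

theorem algebraMap_mem_map_pow_iff (n : ℕ) (r : R) :
    algebraMap R Rhat r ∈ Ideal.map (algebraMap R Rhat) (maximalIdeal R ^ n) ↔
      r ∈ maximalIdeal R ^ n := by
  rw [mem_map_pow_iff, AlgHom.commutes, Ideal.Quotient.algebraMap_eq,
    Ideal.Quotient.eq_zero_iff_mem]

omit [IsNoetherianRing R] in
theorem span_range_hat {d : ℕ} (x : Fin d → R) (hx : Ideal.span (Set.range x) = maximalIdeal R)
    (xh : Fin d → Rhat) (hxh : ∀ i, xh i = algebraMap R Rhat (x i)) :
    Ideal.span (Set.range xh) = Ideal.map (algebraMap R Rhat) (maximalIdeal R) := by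
  have h : xh = (algebraMap R Rhat) ∘ x := funext hxh
  rw [h, Set.range_comp, ← Ideal.map_span, hx]

theorem exists_AR_hat {d : ℕ} (x : Fin d → R) (hx : Ideal.span (Set.range x) = maximalIdeal R)
    (xh : Fin d → Rhat) (hxh : ∀ i, xh i = algebraMap R Rhat (x i))
    (dd : (Fin d → Rhat) →ₗ[Rhat] Rhat) (hdd : ∀ v, dd v = ∑ i, v i * xh i) :
    ∃ c : ℕ, ∀ v : Fin d → Rhat, (∀ i, v i ∈ Ideal.span (Set.range xh) ^ (c + 1)) → dd v = 0 →
      v ∈ Ideal.span (Set.range xh) • LinearMap.ker dd := by
  classical
  have hspan := span_range_hat x hx xh hxh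
  have hpow : ∀ n, Ideal.span (Set.range xh) ^ n =
      Ideal.map (algebraMap R Rhat) (maximalIdeal R ^ n) := fun n => by
    rw [hspan, Ideal.map_pow]
  obtain ⟨dR, hdR⟩ : ∃ dR : (Fin d → R) →ₗ[R] R, ∀ v, dR v = ∑ i, v i * x i :=
    ⟨Fintype.linearCombination R x, fun v => by
      rw [Fintype.linearCombination_apply]
      simp only [smul_eq_mul]⟩
  obtain ⟨c, hc⟩ := Ideal.exists_pow_inf_eq_pow_smul (maximalIdeal R) (LinearMap.ker dR)
  refine ⟨c, fun v hv hv0 => ?_⟩
  have hrel : ∑ i, x i • v i = 0 := by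
    have h := hv0
    rw [hdd] at h
    rw [← h]
    apply Finset.sum_congr rfl
    intro i _
    rw [Algebra.smul_def, mul_comm, hxh]
  obtain ⟨k, a, w, hva, hax⟩ := Module.Flat.isTrivialRelation_of_sum_smul_eq_zero hrel
  choose s hs using fun j => exists_approx (R := R) (c + 1) (w j)
  obtain ⟨kk, hkk⟩ : ∃ kk : Fin d → R, ∀ i, kk i = ∑ j, a i j * s j := ⟨_, fun _ => rfl⟩
  have hk1 : dR kk = 0 := by
    rw [hdR]
    calc ∑ i, kk i * x i = ∑ i, ∑ j, s j * (x i * a i j) := by
          apply Finset.sum_congr rfl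
          intro i _
          rw [hkk, Finset.sum_mul]
          apply Finset.sum_congr rfl
          intro j _
          ring
      _ = ∑ j, s j * ∑ i, x i * a i j := by
          rw [Finset.sum_comm]
          apply Finset.sum_congr rfl
          intro j _
          rw [Finset.mul_sum]
      _ = 0 := by simp only [hax, mul_zero, Finset.sum_const_zero]
  have hvk : ∀ i, v i = algebraMap R Rhat (kk i) +
      ∑ j, a i j • (w j - algebraMap R Rhat (s j)) := by
    intro i
    rw [hva i, hkk i, map_sum, ← Finset.sum_add_distrib]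
    apply Finset.sum_congr rfl
    intro j _
    rw [map_mul, smul_sub, Algebra.smul_def, Algebra.smul_def]
    ring
  have hkm : ∀ i, kk i ∈ maximalIdeal R ^ (c + 1) := by
    intro i
    rw [← algebraMap_mem_map_pow_iff]
    have h1 : algebraMap R Rhat (kk i) =
        v i - ∑ j, a i j • (w j - algebraMap R Rhat (s j)) :=
      eq_sub_of_add_eq (hvk i).symm
    rw [h1]
    refine Ideal.sub_mem _ ?_ (Ideal.sum_mem _ fun j _ => ?_)
    · have h2 := hv i
      rwa [hpow] at h2
    · exact Submodule.smul_of_tower_mem _ _ (hs j)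
  have hk2 : kk ∈ maximalIdeal R • LinearMap.ker dR := by
    have pi_mem : kk ∈ (maximalIdeal R ^ (c + 1)) • (⊤ : Submodule R (Fin d → R)) := by
      rw [pi_eq_sum_univ kk]
      exact Submodule.sum_mem _ fun i _ => Submodule.smul_mem_smul (hkm i) Submodule.mem_top
    have hk2' : kk ∈ (maximalIdeal R ^ (c + 1)) • (⊤ : Submodule R (Fin d → R)) ⊓
        LinearMap.ker dR := ⟨pi_mem, LinearMap.mem_ker.mpr hk1⟩
    rw [hc (c + 1) (Nat.le_succ c)] at hk2'
    have hone : c + 1 - c = 1 := by omega
    rw [hone, pow_one] at hk2'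
    exact Submodule.smul_mono le_rfl inf_le_right hk2'
  have hvdecomp : v = (fun i => algebraMap R Rhat (kk i)) +
      ∑ j, (w j - algebraMap R Rhat (s j)) • (fun i => algebraMap R Rhat (a i j)) := by
    funext i
    rw [hvk i, Pi.add_apply, Finset.sum_apply]
    congr 1
    apply Finset.sum_congr rfl
    intro j _
    rw [Pi.smul_apply, smul_eq_mul, Algebra.smul_def, mul_comm]
  have h2 : ∀ j, (fun i => algebraMap R Rhat (a i j)) ∈ LinearMap.ker dd := by
    intro j
    rw [LinearMap.mem_ker, hdd]
    have h3 := congrArg (algebraMap R Rhat) (hax j)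
    rw [map_sum, map_zero] at h3
    rw [← h3]
    apply Finset.sum_congr rfl
    intro i _
    rw [map_mul, mul_comm, hxh]
  have hpart1 : ∀ u ∈ maximalIdeal R • LinearMap.ker dR,
      (fun i => algebraMap R Rhat (u i)) ∈ Ideal.span (Set.range xh) • LinearMap.ker dd := by
    intro u hu
    refine Submodule.smul_induction_on hu ?_ ?_
    · intro t ht z hz
      have h3 : (fun i => algebraMap R Rhat ((t • z) i)) =
          algebraMap R Rhat t • (fun i => algebraMap R Rhat (z i)) := by
        funext i
        simp only [Pi.smul_apply, smul_eq_mul, map_mul]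
      rw [h3]
      apply Submodule.smul_mem_smul
      · rw [hspan]
        exact Ideal.mem_map_of_mem _ ht
      · rw [LinearMap.mem_ker, hdd]
        have h4 : dR z = 0 := hz
        rw [hdR] at h4
        have h5 := congrArg (algebraMap R Rhat) h4
        rw [map_sum, map_zero] at h5
        rw [← h5]
        apply Finset.sum_congr rfl
        intro i _
        rw [map_mul, hxh]
    · intro u₁ u₂ h₁ h₂
      have h3 : (fun i => algebraMap R Rhat ((u₁ + u₂) i)) =
          (fun i => algebraMap R Rhat (u₁ i)) + (fun i => algebraMap R Rhat (u₂ i)) := by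
        funext i
        simp only [Pi.add_apply, map_add]
      rw [h3]
      exact Submodule.add_mem _ h₁ h₂
  rw [hvdecomp]
  refine Submodule.add_mem _ (hpart1 kk hk2)
    (Submodule.sum_mem _ fun j _ => Submodule.smul_mem_smul ?_ (h2 j))
  have h6 := Ideal.map_mono (f := algebraMap R Rhat)
    (Ideal.pow_le_self (I := maximalIdeal R) (Nat.succ_ne_zero c)) (hs j)
  rwa [← hspan] at h6

end Hat

section Mod

variable {R : Type u} [CommRing R] [IsLocalRing R] [IsNoetherianRing R]

local notation "Rhat" => AdicCompletion (IsLocalRing.maximalIdeal R) R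

variable (L : Type u) [AddCommGroup L]
  [Module (AdicCompletion (IsLocalRing.maximalIdeal R) R) L] [Module R L]
  [IsScalarTower R (AdicCompletion (IsLocalRing.maximalIdeal R) R) L]
  [IsSimpleModule R L]

theorem smul_eq_zero_of_mem_map (z : L) (x : Rhat)
    (hx : x ∈ Ideal.map (algebraMap R Rhat) (maximalIdeal R)) : x • z = 0 := by
  have key : ∀ x ∈ Ideal.span ((algebraMap R Rhat) '' (maximalIdeal R : Set R)), x • z = 0 := by
    intro x hx
    induction hx using Submodule.span_induction with
    | mem x hx =>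
      obtain ⟨r, hr, rfl⟩ := hx
      rw [algebraMap_smul]
      exact smul_eq_zero_of_mem_maximalIdeal L hr z
    | zero => exact zero_smul _ _
    | add x y _ _ hx hy => rw [add_smul, hx, hy, add_zero]
    | smul c x _ hx => rw [smul_eq_mul, mul_smul, hx, smul_zero]
  exact key x hx

theorem smul_eq_of_evalₐ_eq {n : ℕ} (x : Rhat) (r : R)
    (h : AdicCompletion.evalₐ (maximalIdeal R) (n + 1) x =
      Ideal.Quotient.mk (maximalIdeal R ^ (n + 1)) r) (z : L) : x • z = r • z := by
  have h1 : x - algebraMap R Rhat r ∈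
      Ideal.map (algebraMap R Rhat) (maximalIdeal R ^ (n + 1)) := by
    rw [mem_map_pow_iff, map_sub, h, AlgHom.commutes, Ideal.Quotient.algebraMap_eq, sub_self]
  have h2 := smul_eq_zero_of_mem_map L z _
    (Ideal.map_mono (Ideal.pow_le_self (Nat.succ_ne_zero n)) h1)
  rw [sub_smul, algebraMap_smul, sub_eq_zero] at h2
  exact h2

end Mod

end Groth.Agent.Helper6.ExalCompl
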