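import Mathlib
import Groth.Prelude.Def_Exal2

/-!
# Generalities on extensions: morphisms of extensions are equivalences; the inverse image
-/

set_option autoImplicit false
universe u v

namespace Groth.Agent.Helper6.ExalCompl

section
variable {A : Type u} {B L : Type v} [CommRing A] [CommRing B] [Algebra A B] [AddCommGroup L]
  [Module B L]

/-- A morphism of extensions is an equivalence (five lemma). -/
theorem nonempty_equiv_of_algHom (X Y : Exal.Ext A B L) (g : X.E →ₐ[A] Y.E)
    (hp : ∀ x, Y.proj (g x) = X.proj x) (hi : ∀ z, g (X.incl z) = Y.incl z) :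
    Nonempty (X.Equiv Y) := by
  have hinj : Function.Injective g := by
    rw [injective_iff_map_eq_zero]
    intro x hx
    have h1 : X.proj x = 0 := by rw [← hp, hx, map_zero]
    obtain ⟨z, rfl⟩ := (X.isExtension.exact x).mp h1
    rw [hi] at hx
    have h2 : z = 0 := Y.isExtension.incl_injective (by rw [hx, map_zero])
    rw [h2, map_zero]
  have hsurj : Function.Surjective g := by
    intro y
    obtain ⟨x, hx⟩ := X.isExtension.proj_surjective (Y.proj y)
    have h1 : Y.proj (y - g x) = 0 := by rw [map_sub, hp, hx, sub_self]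
    obtain ⟨z, hz⟩ := (Y.isExtension.exact _).mp h1
    refine ⟨x + X.incl z, ?_⟩
    rw [map_add, hi, hz]
    ring
  exact ⟨⟨AlgEquiv.ofBijective g ⟨hinj, hsurj⟩, fun x => hp x, fun z => hi z⟩⟩

variable (B₀ : Type v) [CommRing B₀] [Algebra A B₀] [Algebra B₀ B] [IsScalarTower A B₀ B]
  [Module B₀ L] [IsScalarTower B₀ B L]

/-- The projection of the inverse image of an extension to the original middle ring. -/
noncomputable def fstP (X : Exal.Ext A B L) : (X.pullback B₀).E →ₐ[A] X.E :=
  (AlgHom.fst A X.E B₀).comp (X.fiberProd B₀).val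

theorem proj_fstP (X : Exal.Ext A B L) (b : (X.pullback B₀).E) :
    X.proj (fstP B₀ X b) = algebraMap B₀ B ((X.pullback B₀).proj b) := by
  obtain ⟨⟨e, r⟩, hb⟩ := b
  have hb' : X.proj e = algebraMap B₀ B r := by
    simpa [Exal.Ext.fiberProd, AlgHom.mem_equalizer] using hb
  exact hb'

theorem exists_pull (X : Exal.Ext A B L) (e : X.E) (r : B₀)
    (h : X.proj e = algebraMap B₀ B r) :
    ∃ b : (X.pullback B₀).E, fstP B₀ X b = e ∧ (X.pullback B₀).proj b = r := by
  have hm : ((e, r) : X.E × B₀) ∈ X.fiberProd B₀ := by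
    rw [Exal.Ext.fiberProd, AlgHom.mem_equalizer]
    exact h
  exact ⟨(⟨(e, r), hm⟩ : X.fiberProd B₀), rfl, rfl⟩

theorem fstP_incl (X : Exal.Ext A B L) (z : L) :
    fstP B₀ X ((X.pullback B₀).incl z) = X.incl z := rfl

theorem pull_ext (X : Exal.Ext A B L) {b b' : (X.pullback B₀).E}
    (h1 : fstP B₀ X b = fstP B₀ X b')
    (h2 : (X.pullback B₀).proj b = (X.pullback B₀).proj b') : b = b' := by
  obtain ⟨⟨e, r⟩, hb⟩ := b
  obtain ⟨⟨e', r'⟩, hb'⟩ := b'
  have h1' : e = e' := h1
  have h2' : r = r' := h2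
  subst h1' h2'
  rfl

end

end Groth.Agent.Helper6.ExalCompl
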