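import Mathlib
import Groth.Prelude.Def_Exal2
import Groth.Agent.Lib.Helper6.ExalCompl.AR
import Groth.Agent.Lib.Helper6.ExalCompl.Hat
import Groth.Agent.Lib.Helper6.ExalCompl.Pull

/-!
# Extensions of `R̂` by a simple module with equivalent inverse images over `R` are equivalent
-/

set_option autoImplicit false
universe u

namespace Groth.Agent.Helper6.ExalCompl

open IsLocalRing

theorem nonempty_equiv_of_pullback_equiv
    {Λ : Type u} [CommRing Λ] {R : Type u} [CommRing R] [Algebra Λ R] [IsLocalRing R]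
    [IsNoetherianRing R]
    (L : Type u) [AddCommGroup L] [Module (AdicCompletion (maximalIdeal R) R) L] [Module R L]
    [IsScalarTower R (AdicCompletion (maximalIdeal R) R) L] [IsSimpleModule R L]
    (X X' : Exal.Ext Λ (AdicCompletion (maximalIdeal R) R) L)
    (φ : (X.pullback R).Equiv (X'.pullback R)) : Nonempty (X.Equiv X') := by
  classical
  obtain ⟨d, x, hx⟩ := Submodule.fg_iff_exists_fin_generating_family.mp
    (IsNoetherian.noetherian (maximalIdeal R))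
  have hx' : Ideal.span (Set.range x) = maximalIdeal R := hx
  obtain ⟨xh, hxh⟩ : ∃ xh : Fin d → AdicCompletion (maximalIdeal R) R,
      ∀ i, xh i = algebraMap R (AdicCompletion (maximalIdeal R) R) (x i) := ⟨_, fun _ => rfl⟩
  have hspan := span_range_hat x hx' xh hxh
  have hpow : ∀ n, Ideal.span (Set.range xh) ^ n =
      Ideal.map (algebraMap R (AdicCompletion (maximalIdeal R) R)) (maximalIdeal R ^ n) :=
    fun n => by rw [hspan, Ideal.map_pow]
  obtain ⟨dd, hdd⟩ : ∃ dd : (Fin d → AdicCompletion (maximalIdeal R) R) →ₗ[AdicCompletion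
      (maximalIdeal R) R] AdicCompletion (maximalIdeal R) R, ∀ v, dd v = ∑ i, v i * xh i :=
    ⟨Fintype.linearCombination (AdicCompletion (maximalIdeal R) R) xh, fun v => by
      rw [Fintype.linearCombination_apply]
      simp only [smul_eq_mul]⟩
  obtain ⟨c, hc⟩ := exists_AR_hat x hx' xh hxh dd hdd
  have hqs := (X.pullback R).isExtension.proj_surjective
  choose y hy using fun i => hqs (x i)
  obtain ⟨yt, hyt⟩ : ∃ yt : Fin d → X.E, ∀ i, yt i = fstP R X (y i) := ⟨_, fun _ => rfl⟩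
  obtain ⟨yt', hyt'⟩ : ∃ yt' : Fin d → X'.E, ∀ i, yt' i = fstP R X' (φ.toAlgEquiv (y i)) :=
    ⟨_, fun _ => rfl⟩
  have hpyt : ∀ i, X.proj (yt i) = xh i := fun i => by
    rw [hyt i, proj_fstP, hy i, hxh i]
  have hpyt' : ∀ i, X'.proj (yt' i) = xh i := fun i => by
    rw [hyt' i, proj_fstP, φ.proj_apply, hy i, hxh i]
  have hkillX : ∀ (Z : Exal.Ext Λ (AdicCompletion (maximalIdeal R) R) L) (e : Z.E),
      Z.proj e ∈ Ideal.span (Set.range xh) → ∀ w : Z.E, Z.proj w = 0 → e * w = 0 := by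
    intro Z e he w hw
    obtain ⟨z, rfl⟩ := (Z.isExtension.exact w).mp hw
    rw [hspan] at he
    rw [Z.isExtension.mul_incl, smul_eq_zero_of_mem_map L z _ he, map_zero]
  have hA := mul_comap_inf_ker_eq_bot X.proj X.isExtension.proj_surjective yt xh hpyt
    (hkillX X) dd hdd c hc
  have hA' := mul_comap_inf_ker_eq_bot X'.proj X'.isExtension.proj_surjective yt' xh hpyt'
    (hkillX X') dd hdd c hc
  obtain ⟨It, hIt⟩ : ∃ It : Ideal X.E, It = Ideal.span (Set.range yt) *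
      Ideal.comap X.proj (Ideal.span (Set.range xh) ^ (c + 1)) := ⟨_, rfl⟩
  obtain ⟨It', hIt'⟩ : ∃ It' : Ideal X'.E, It' = Ideal.span (Set.range yt') *
      Ideal.comap X'.proj (Ideal.span (Set.range xh) ^ (c + 1)) := ⟨_, rfl⟩
  rw [← hIt] at hA
  rw [← hIt'] at hA'
  have hmapIt : Ideal.map X.proj It = Ideal.span (Set.range xh) ^ (c + 1 + 1) := by
    rw [hIt, Ideal.map_mul, Ideal.map_span, ← Set.range_comp,
      Ideal.map_comap_of_surjective X.proj X.isExtension.proj_surjective]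
    have h1 : (X.proj ∘ yt) = xh := funext hpyt
    rw [h1]
    exact (pow_succ' _ _).symm
  have hmapIt' : Ideal.map X'.proj It' = Ideal.span (Set.range xh) ^ (c + 1 + 1) := by
    rw [hIt', Ideal.map_mul, Ideal.map_span, ← Set.range_comp,
      Ideal.map_comap_of_surjective X'.proj X'.isExtension.proj_surjective]
    have h1 : (X'.proj ∘ yt') = xh := funext hpyt'
    rw [h1]
    exact (pow_succ' _ _).symm
  -- decomposition
  have hD : ∀ e : X.E, ∃ b : (X.pullback R).E, ∃ t ∈ It, e = fstP R X b + t := by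
    intro e
    obtain ⟨r, hr⟩ := exists_approx (R := R) (c + 1 + 1) (X.proj e)
    rw [← hpow, ← hmapIt] at hr
    obtain ⟨t, ht, hpt⟩ :=
      (Ideal.mem_map_iff_of_surjective X.proj X.isExtension.proj_surjective).mp hr
    obtain ⟨b, hb1, hb2⟩ := exists_pull R X (e - t) r (by
      rw [map_sub, hpt]
      ring)
    exact ⟨b, t, ht, by rw [hb1]; ring⟩
  have hT : ∀ t ∈ It, ∃ t' ∈ It', X'.proj t' = X.proj t := by
    intro t ht
    have h1 : X.proj t ∈ Ideal.map X.proj It := Ideal.mem_map_of_mem _ ht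
    rw [hmapIt, ← hmapIt'] at h1
    exact (Ideal.mem_map_iff_of_surjective X'.proj X'.isExtension.proj_surjective).mp h1
  have hpφ : ∀ b, X'.proj (fstP R X' (φ.toAlgEquiv b)) = X.proj (fstP R X b) := fun b => by
    rw [proj_fstP, proj_fstP, φ.proj_apply]
  -- Claim B
  have hB : ∀ b : (X.pullback R).E, fstP R X b ∈ It → fstP R X' (φ.toAlgEquiv b) ∈ It' := by
    intro b hb
    have h1 : X.proj (fstP R X b) ∈ Ideal.map X.proj It := Ideal.mem_map_of_mem _ hb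
    rw [hmapIt, hpow, proj_fstP, algebraMap_mem_map_pow_iff] at h1
    obtain ⟨IR, hIR⟩ : ∃ IR : Ideal (X.pullback R).E, IR = Ideal.span (Set.range y) *
        Ideal.comap (X.pullback R).proj (maximalIdeal R ^ (c + 1)) := ⟨_, rfl⟩
    have hmapIR : Ideal.map (X.pullback R).proj IR = maximalIdeal R ^ (c + 1 + 1) := by
      rw [hIR, Ideal.map_mul, Ideal.map_span, ← Set.range_comp,
        Ideal.map_comap_of_surjective _ hqs]
      have h2 : ((X.pullback R).proj ∘ y) = x := funext hy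
      rw [h2, hx']
      exact (pow_succ' _ _).symm
    rw [← hmapIR] at h1
    obtain ⟨b₀, hb₀, hqb₀⟩ := (Ideal.mem_map_iff_of_surjective _ hqs).mp h1
    have hfb₀ : fstP R X b₀ ∈ It := by
      have h3 := map_mem_mul (fstP R X) y
        (Ideal.comap (X.pullback R).proj (maximalIdeal R ^ (c + 1)))
        (Ideal.comap X.proj (Ideal.span (Set.range xh) ^ (c + 1))) (by
          intro a ha
          rw [Ideal.mem_comap] at ha ⊢
          rw [hpow, proj_fstP]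
          exact Ideal.mem_map_of_mem _ ha) b₀ (by rw [← hIR]; exact hb₀)
      have h4 : (fstP R X) ∘ y = yt := funext fun i => (hyt i).symm
      rw [h4, ← hIt] at h3
      exact h3
    have hfb₀' : fstP R X' (φ.toAlgEquiv b₀) ∈ It' := by
      have h3 := map_mem_mul ((fstP R X').comp φ.toAlgEquiv.toAlgHom) y
        (Ideal.comap (X.pullback R).proj (maximalIdeal R ^ (c + 1)))
        (Ideal.comap X'.proj (Ideal.span (Set.range xh) ^ (c + 1))) (by
          intro a ha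
          rw [Ideal.mem_comap] at ha ⊢
          change X'.proj (fstP R X' (φ.toAlgEquiv a)) ∈ _
          rw [hpow, proj_fstP, φ.proj_apply]
          exact Ideal.mem_map_of_mem _ ha) b₀ (by rw [← hIR]; exact hb₀)
      have h4 : ((fstP R X').comp φ.toAlgEquiv.toAlgHom) ∘ y = yt' :=
        funext fun i => (hyt' i).symm
      rw [h4, ← hIt'] at h3
      exact h3
    have hsub : fstP R X (b - b₀) = 0 := by
      apply hA _ (by rw [map_sub]; exact It.sub_mem hb hfb₀)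
      rw [proj_fstP, map_sub, hqb₀, sub_self, map_zero]
    have hbb : b = b₀ := by
      have h5 : b - b₀ = 0 := pull_ext R X (by rw [hsub, map_zero])
        (by rw [map_sub, hqb₀, sub_self, map_zero])
      exact sub_eq_zero.mp h5
    rw [hbb]
    exact hfb₀'
  -- the relation
  obtain ⟨Rel, hRel⟩ : ∃ Rel : X.E → X'.E → Prop, ∀ e e', Rel e e' ↔
      ∃ b : (X.pullback R).E, ∃ t : X.E, ∃ t' : X'.E, t ∈ It ∧ t' ∈ It' ∧
        e = fstP R X b + t ∧ e' = fstP R X' (φ.toAlgEquiv b) + t' ∧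
        X'.proj t' = X.proj t := ⟨_, fun _ _ => Iff.rfl⟩
  have hex : ∀ e, ∃ e', Rel e e' := by
    intro e
    obtain ⟨b, t, ht, he⟩ := hD e
    obtain ⟨t', ht', hpt'⟩ := hT t ht
    exact ⟨_, (hRel _ _).mpr ⟨b, t, t', ht, ht', he, rfl, hpt'⟩⟩
  have huniq : ∀ e e₁ e₂, Rel e e₁ → Rel e e₂ → e₁ = e₂ := by
    intro e e₁ e₂ h₁ h₂
    obtain ⟨b₁, t₁, t'₁, ht₁, ht'₁, he₁, he'₁, hp₁⟩ := (hRel _ _).mp h₁
    obtain ⟨b₂, t₂, t'₂, ht₂, ht'₂, he₂, he'₂, hp₂⟩ := (hRel _ _).mp h₂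
    have h3 : fstP R X (b₁ - b₂) = t₂ - t₁ := by
      rw [map_sub]
      have h4 : fstP R X b₁ + t₁ = fstP R X b₂ + t₂ := by rw [← he₁, ← he₂]
      linear_combination h4
    have h5 : fstP R X' (φ.toAlgEquiv (b₁ - b₂)) ∈ It' :=
      hB _ (by rw [h3]; exact It.sub_mem ht₂ ht₁)
    have h6 : e₁ - e₂ ∈ It' := by
      have h7 : e₁ - e₂ = fstP R X' (φ.toAlgEquiv (b₁ - b₂)) + (t'₁ - t'₂) := by
        rw [he'₁, he'₂, map_sub, map_sub]
        ring
      rw [h7]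
      exact It'.add_mem h5 (It'.sub_mem ht'₁ ht'₂)
    have hpe₁ : X.proj (fstP R X b₁) + X.proj t₁ = X.proj e := by rw [← map_add, ← he₁]
    have hpe₂ : X.proj (fstP R X b₂) + X.proj t₂ = X.proj e := by rw [← map_add, ← he₂]
    have h8 : X'.proj (e₁ - e₂) = 0 := by
      rw [he'₁, he'₂, map_sub, map_add, map_add, hpφ, hpφ, hp₁, hp₂, hpe₁, hpe₂, sub_self]
    exact sub_eq_zero.mp (hA' _ h6 h8)
  have hRel_add : ∀ e₁ e'₁ e₂ e'₂, Rel e₁ e'₁ → Rel e₂ e'₂ → Rel (e₁ + e₂) (e'₁ + e'₂) := by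
    intro e₁ e'₁ e₂ e'₂ h₁ h₂
    obtain ⟨b₁, t₁, t'₁, ht₁, ht'₁, he₁, he'₁, hp₁⟩ := (hRel _ _).mp h₁
    obtain ⟨b₂, t₂, t'₂, ht₂, ht'₂, he₂, he'₂, hp₂⟩ := (hRel _ _).mp h₂
    refine (hRel _ _).mpr ⟨b₁ + b₂, t₁ + t₂, t'₁ + t'₂, It.add_mem ht₁ ht₂,
      It'.add_mem ht'₁ ht'₂, ?_, ?_, ?_⟩
    · rw [he₁, he₂, map_add]
      ring
    · rw [he'₁, he'₂, map_add, map_add]
      ring
    · rw [map_add, map_add, hp₁, hp₂]
  have hRel_mul : ∀ e₁ e'₁ e₂ e'₂, Rel e₁ e'₁ → Rel e₂ e'₂ → Rel (e₁ * e₂) (e'₁ * e'₂) := by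
    intro e₁ e'₁ e₂ e'₂ h₁ h₂
    obtain ⟨b₁, t₁, t'₁, ht₁, ht'₁, he₁, he'₁, hp₁⟩ := (hRel _ _).mp h₁
    obtain ⟨b₂, t₂, t'₂, ht₂, ht'₂, he₂, he'₂, hp₂⟩ := (hRel _ _).mp h₂
    refine (hRel _ _).mpr ⟨b₁ * b₂, fstP R X b₁ * t₂ + t₁ * fstP R X b₂ + t₁ * t₂,
      fstP R X' (φ.toAlgEquiv b₁) * t'₂ + t'₁ * fstP R X' (φ.toAlgEquiv b₂) + t'₁ * t'₂,
      ?_, ?_, ?_, ?_, ?_⟩
    · exact It.add_mem (It.add_mem (It.mul_mem_left _ ht₂) (It.mul_mem_right _ ht₁))
        (It.mul_mem_left _ ht₂)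
    · exact It'.add_mem (It'.add_mem (It'.mul_mem_left _ ht'₂) (It'.mul_mem_right _ ht'₁))
        (It'.mul_mem_left _ ht'₂)
    · rw [he₁, he₂, map_mul]
      ring
    · rw [he'₁, he'₂, map_mul, map_mul]
      ring
    · simp only [map_add, map_mul, hpφ, hp₁, hp₂]
  have hRel_one : Rel 1 1 := (hRel _ _).mpr ⟨1, 0, 0, It.zero_mem, It'.zero_mem,
    by rw [map_one, add_zero], by rw [map_one, map_one, add_zero], by rw [map_zero, map_zero]⟩
  have hRel_zero : Rel 0 0 := (hRel _ _).mpr ⟨0, 0, 0, It.zero_mem, It'.zero_mem,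
    by rw [map_zero, add_zero], by rw [map_zero, map_zero, add_zero],
    by rw [map_zero, map_zero]⟩
  have hRel_alg : ∀ a : Λ, Rel (algebraMap Λ X.E a) (algebraMap Λ X'.E a) := fun a =>
    (hRel _ _).mpr ⟨algebraMap Λ _ a, 0, 0, It.zero_mem, It'.zero_mem,
      by rw [AlgHom.commutes, add_zero],
      by rw [AlgEquiv.commutes, AlgHom.commutes, add_zero], by rw [map_zero, map_zero]⟩
  have hRel_incl : ∀ z : L, Rel (X.incl z) (X'.incl z) := fun z =>
    (hRel _ _).mpr ⟨(X.pullback R).incl z, 0, 0, It.zero_mem, It'.zero_mem,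
      by rw [fstP_incl, add_zero],
      by rw [φ.apply_incl, fstP_incl, add_zero], by rw [map_zero, map_zero]⟩
  choose Φ₀ hΦ₀ using hex
  obtain ⟨Φ, hΦ⟩ : ∃ Φ : X.E →ₐ[Λ] X'.E, ∀ e, Rel e (Φ e) := by
    refine ⟨{ toFun := Φ₀, map_one' := ?_, map_mul' := ?_, map_zero' := ?_, map_add' := ?_,
              commutes' := ?_ }, fun e => hΦ₀ e⟩
    · exact huniq 1 _ _ (hΦ₀ 1) hRel_one
    · intro e₁ e₂
      exact huniq (e₁ * e₂) _ _ (hΦ₀ _) (hRel_mul _ _ _ _ (hΦ₀ e₁) (hΦ₀ e₂))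
    · exact huniq 0 _ _ (hΦ₀ 0) hRel_zero
    · intro e₁ e₂
      exact huniq (e₁ + e₂) _ _ (hΦ₀ _) (hRel_add _ _ _ _ (hΦ₀ e₁) (hΦ₀ e₂))
    · intro a
      exact huniq _ _ _ (hΦ₀ _) (hRel_alg a)
  have hp : ∀ e, X'.proj (Φ e) = X.proj e := by
    intro e
    obtain ⟨b, t, t', ht, ht', he, he', hpt⟩ := (hRel _ _).mp (hΦ e)
    rw [he', map_add, hpφ, hpt, ← map_add, ← he]
  have hi : ∀ z, Φ (X.incl z) = X'.incl z := fun z => huniq _ _ _ (hΦ _) (hRel_incl z)
  exact nonempty_equiv_of_algHom X X' Φ hp hi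

end Groth.Agent.Helper6.ExalCompl
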