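import Mathlib
import Groth.Prelude.Def_Exal2
import Groth.Agent.Lib.Helper6.ExalPS.Krull
import Groth.Agent.Lib.Helper6.ExalCompl.Hat
import Groth.Agent.Lib.Helper6.ExalCompl.Pull

/-!
# Every extension of `R` by a simple module is the inverse image of an extension of `R̂`
-/

set_option autoImplicit false
universe u

namespace Groth.Agent.Helper6.ExalCompl

open IsLocalRing

theorem exists_ext_pullback_equiv
    {Λ : Type u} [CommRing Λ] {R : Type u} [CommRing R] [Algebra Λ R] [IsLocalRing R]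
    [IsNoetherianRing R]
    (L : Type u) [AddCommGroup L] [Module (AdicCompletion (maximalIdeal R) R) L] [Module R L]
    [IsScalarTower R (AdicCompletion (maximalIdeal R) R) L] [IsSimpleModule R L]
    (Y : Exal.Ext Λ R L) :
    ∃ X : Exal.Ext Λ (AdicCompletion (maximalIdeal R) R) L,
      Nonempty ((X.pullback R).Equiv Y) := by
  classical
  obtain ⟨d, x, hx⟩ := Submodule.fg_iff_exists_fin_generating_family.mp
    (IsNoetherian.noetherian (maximalIdeal R))
  have hps := Y.isExtension.proj_surjective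
  choose y hy using fun i => hps (x i)
  have hxy : (fun i => Y.proj.toRingHom (y i)) = x := funext hy
  have hkill : ∀ e : Y.E, Y.proj.toRingHom e ∈
      Ideal.span (Set.range fun i => Y.proj.toRingHom (y i)) →
      ∀ w : Y.E, Y.proj.toRingHom w = 0 → e * w = 0 := by
    intro e he w hw
    change Y.proj w = 0 at hw
    obtain ⟨z, rfl⟩ := (Y.isExtension.exact w).mp hw
    rw [Y.isExtension.mul_incl]
    rw [hxy] at he
    have he' : Y.proj e ∈ maximalIdeal R := by
      rw [← hx]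
      exact he
    rw [smul_eq_zero_of_mem_maximalIdeal L he', map_zero]
  obtain ⟨N, hN⟩ := Groth.Agent.Helper6.ExalPS.exists_pow_inf_ker_eq_bot Y.proj.toRingHom hps y
    hkill
  obtain ⟨I, hIdef⟩ : ∃ I : Ideal Y.E, I = Ideal.span (Set.range y) ^ (N + 1) := ⟨_, rfl⟩
  have hI0 : ∀ w ∈ I, Y.proj w = 0 → w = 0 := by
    intro w hw hw0
    rw [hIdef] at hw
    exact hN w (Ideal.pow_le_pow_right (Nat.le_succ N) hw) hw0
  have hIq : Ideal.map Y.proj I = maximalIdeal R ^ (N + 1) := by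
    rw [hIdef, Ideal.map_pow, Ideal.map_span, ← Set.range_comp]
    have h1 : (Y.proj ∘ y) = x := funext hy
    rw [h1]
    have h2 : Ideal.span (Set.range x) = maximalIdeal R := hx
    rw [h2]
  have hle : I ≤ Ideal.comap Y.proj (maximalIdeal R ^ (N + 1)) := by
    rw [← Ideal.map_le_iff_le_comap, hIq]
  have hlift : ∀ r ∈ maximalIdeal R ^ (N + 1), ∃ i₀ ∈ I, Y.proj i₀ = r := by
    intro r hr
    rw [← hIq] at hr
    exact (Ideal.mem_map_iff_of_surjective Y.proj hps).mp hr
  have hpi : ∀ z : L, Y.proj (Y.incl z) = 0 := fun z => (Y.isExtension.exact _).mpr ⟨z, rfl⟩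
  obtain ⟨qbar, hqbar⟩ : ∃ qbar : (Y.E ⧸ I) →ₐ[Λ] (R ⧸ maximalIdeal R ^ (N + 1)),
      ∀ f : Y.E, qbar (Ideal.Quotient.mk I f) =
        Ideal.Quotient.mk (maximalIdeal R ^ (N + 1)) (Y.proj f) :=
    ⟨Ideal.quotientMapₐ _ Y.proj hle, fun f => rfl⟩
  obtain ⟨evΛ, hevΛ⟩ : ∃ evΛ : AdicCompletion (maximalIdeal R) R →ₐ[Λ]
      (R ⧸ maximalIdeal R ^ (N + 1)),
      ∀ a, evΛ a = AdicCompletion.evalₐ (maximalIdeal R) (N + 1) a :=
    ⟨(AdicCompletion.evalₐ (maximalIdeal R) (N + 1)).restrictScalars Λ, fun a => rfl⟩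
  obtain ⟨S, hS⟩ : ∃ S : Subalgebra Λ (AdicCompletion (maximalIdeal R) R × (Y.E ⧸ I)),
      ∀ a g, (a, g) ∈ S ↔ evΛ a = qbar g :=
    ⟨AlgHom.equalizer (evΛ.comp (AlgHom.fst Λ (AdicCompletion (maximalIdeal R) R) (Y.E ⧸ I)))
      (qbar.comp (AlgHom.snd Λ (AdicCompletion (maximalIdeal R) R) (Y.E ⧸ I))),
      fun a g => Iff.rfl⟩
  have hmem0 : ∀ z : L, ((0 : AdicCompletion (maximalIdeal R) R),
      Ideal.Quotient.mk I (Y.incl z)) ∈ S := by
    intro z
    rw [hS, map_zero, hqbar, hpi, map_zero]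
  obtain ⟨incl, hincl⟩ : ∃ incl : L →+ S, ∀ z,
      (incl z : AdicCompletion (maximalIdeal R) R × (Y.E ⧸ I)) =
        (0, Ideal.Quotient.mk I (Y.incl z)) := by
    refine ⟨{ toFun := fun z => ⟨(0, Ideal.Quotient.mk I (Y.incl z)), hmem0 z⟩
              map_zero' := ?_
              map_add' := ?_ }, fun z => rfl⟩
    · apply Subtype.ext
      apply Prod.ext <;> simp
    · intro z z'
      apply Subtype.ext
      apply Prod.ext <;> simp
  obtain ⟨proj, hproj⟩ : ∃ proj : S →ₐ[Λ] AdicCompletion (maximalIdeal R) R,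
      ∀ s : S, proj s = (s : AdicCompletion (maximalIdeal R) R × (Y.E ⧸ I)).1 :=
    ⟨(AlgHom.fst Λ _ _).comp S.val, fun s => rfl⟩
  have hext : Exal.IsExtension proj incl := by
    refine ⟨?_, ?_, ?_, ?_⟩
    · intro a
      obtain ⟨r, hr⟩ := Ideal.Quotient.mk_surjective (evΛ a)
      obtain ⟨f, hf⟩ := hps r
      have hm : (a, Ideal.Quotient.mk I f) ∈ S := by
        rw [hS, hqbar, hf, hr]
      exact ⟨⟨(a, Ideal.Quotient.mk I f), hm⟩, by rw [hproj]⟩
    · intro z z' h
      have h0 : (incl z : AdicCompletion (maximalIdeal R) R × (Y.E ⧸ I)) = incl z' :=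
        congrArg Subtype.val h
      rw [hincl, hincl] at h0
      have h1 : Ideal.Quotient.mk I (Y.incl z) = Ideal.Quotient.mk I (Y.incl z') :=
        (Prod.ext_iff.mp h0).2
      rw [Ideal.Quotient.eq, ← map_sub] at h1
      have h3 := hI0 _ h1 (hpi _)
      have h4 : z - z' = 0 := Y.isExtension.incl_injective (by rw [h3, map_zero])
      exact sub_eq_zero.mp h4
    · intro s
      rw [hproj]
      constructor
      · intro h0
        obtain ⟨⟨a, g⟩, hs⟩ := s
        change a = 0 at h0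
        subst h0
        obtain ⟨f, rfl⟩ := Ideal.Quotient.mk_surjective g
        have h1 := (hS _ _).mp hs
        rw [map_zero, hqbar] at h1
        have h2 : Y.proj f ∈ maximalIdeal R ^ (N + 1) :=
          Ideal.Quotient.eq_zero_iff_mem.mp h1.symm
        obtain ⟨i₀, hi₀, hi₀f⟩ := hlift _ h2
        have h3 : Y.proj (f - i₀) = 0 := by rw [map_sub, hi₀f, sub_self]
        obtain ⟨z, hz⟩ := (Y.isExtension.exact _).mp h3
        refine ⟨z, ?_⟩
        apply Subtype.ext
        rw [hincl]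
        apply Prod.ext
        · rfl
        · change Ideal.Quotient.mk I (Y.incl z) = Ideal.Quotient.mk I f
          rw [hz, map_sub, Ideal.Quotient.eq_zero_iff_mem.mpr hi₀, sub_zero]
      · rintro ⟨z, rfl⟩
        rw [hincl]
    · intro s z
      obtain ⟨⟨a, g⟩, hs⟩ := s
      obtain ⟨f, rfl⟩ := Ideal.Quotient.mk_surjective g
      have h1 := (hS _ _).mp hs
      rw [hqbar, hevΛ] at h1
      have h2 : a • z = Y.proj f • z := smul_eq_of_evalₐ_eq L a (Y.proj f) h1 z
      have hp : proj ⟨(a, Ideal.Quotient.mk I f), hs⟩ = a := hproj _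
      rw [hp, h2]
      apply Subtype.ext
      rw [Subalgebra.coe_mul, hincl, hincl]
      apply Prod.ext
      · exact mul_zero a
      · change Ideal.Quotient.mk I f * Ideal.Quotient.mk I (Y.incl z) =
          Ideal.Quotient.mk I (Y.incl (Y.proj f • z))
        rw [← map_mul, Y.isExtension.mul_incl]
  let X : Exal.Ext Λ (AdicCompletion (maximalIdeal R) R) L := ⟨S, proj, incl, hext⟩
  refine ⟨X, ?_⟩
  let g₁ : Y.E →ₐ[Λ] AdicCompletion (maximalIdeal R) R × (Y.E ⧸ I) :=
    AlgHom.prod ((IsScalarTower.toAlgHom Λ R (AdicCompletion (maximalIdeal R) R)).comp Y.proj)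
      (Ideal.Quotient.mkₐ Λ I)
  have hg₁ : ∀ f, g₁ f ∈ S := by
    intro f
    change (algebraMap R (AdicCompletion (maximalIdeal R) R) (Y.proj f),
      Ideal.Quotient.mk I f) ∈ S
    rw [hS, hevΛ, hqbar, AlgHom.commutes, Ideal.Quotient.algebraMap_eq]
  let g₂ : Y.E →ₐ[Λ] X.E := g₁.codRestrict S hg₁
  let g₃ : Y.E →ₐ[Λ] X.E × R := AlgHom.prod g₂ Y.proj
  have hg₃ : ∀ f, g₃ f ∈ X.fiberProd R := by
    intro f
    rw [Exal.Ext.fiberProd, AlgHom.mem_equalizer]
    exact hproj (g₂ f)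
  let g₄ : Y.E →ₐ[Λ] (X.pullback R).E := g₃.codRestrict (X.fiberProd R) hg₃
  obtain ⟨e⟩ := nonempty_equiv_of_algHom Y (X.pullback R) g₄ (fun f => rfl) (by
    intro z
    apply pull_ext R X
    · change g₂ (Y.incl z) = incl z
      apply Subtype.ext
      rw [hincl]
      change ((algebraMap R (AdicCompletion (maximalIdeal R) R) (Y.proj (Y.incl z)),
        Ideal.Quotient.mk I (Y.incl z)) :
          AdicCompletion (maximalIdeal R) R × (Y.E ⧸ I)) = _
      rw [hpi, map_zero]
    · change Y.proj (Y.incl z) = 0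
      exact hpi z)
  exact ⟨e.symm⟩

end Groth.Agent.Helper6.ExalCompl
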